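import Groth.Prelude.Def_AlgGrp
import Mathlib.AlgebraicGeometry.Sites.Fpqc
import Mathlib.AlgebraicGeometry.Morphisms.Flat
import Mathlib.AlgebraicGeometry.Morphisms.FinitePresentation
import Mathlib.AlgebraicGeometry.Morphisms.FiniteType
import Mathlib.AlgebraicGeometry.Noetherian

/-!
fppf covers in `Over S`: descent of morphisms, lifting of points, homomorphisms.
-/

universe u

open CategoryTheory CategoryTheory.Limits MonoidalCategory CartesianMonoidalCategory MonObj AlgebraicGeometry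

noncomputable section

namespace Groth.Agent.Desc

variable {S : Scheme.{u}}

/-- flat, surjective, locally of finite presentation -/
def IsCover {X Y : Over S} (q : X ⟶ Y) : Prop :=
  Surjective q.left ∧ Flat q.left ∧ LocallyOfFinitePresentation q.left

theorem IsCover.epi {X Y : Over S} {q : X ⟶ Y} (h : IsCover q) : Epi q := by
  obtain ⟨_, _, _⟩ := h
  have : Epi q.left := Flat.epi_of_flat_of_surjective _
  exact Over.epi_of_epi_left q

theorem IsCover.comp {X Y Z : Over S} {q : X ⟶ Y} {r : Y ⟶ Z} (h : IsCover q) (h' : IsCover r) :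
    IsCover (q ≫ r) := by
  obtain ⟨_, _, _⟩ := h
  obtain ⟨_, _, _⟩ := h'
  refine ⟨?_, ?_, ?_⟩ <;> (rw [Over.comp_left]; infer_instance)

theorem IsCover.descend {X Y K : Over S} {q : X ⟶ Y} (h : IsCover q) (f : X ⟶ K)
    (hf : ∀ (T : Over S) (x y : T ⟶ X), x ≫ q = y ≫ q → x ≫ f = y ≫ f) :
    ∃! g : Y ⟶ K, q ≫ g = f := by
  obtain ⟨_, _, _⟩ := h
  have hk : ∀ {Z : Scheme.{u}} (g₁ g₂ : Z ⟶ X.left), g₁ ≫ q.left = g₂ ≫ q.left →
      g₁ ≫ f.left = g₂ ≫ f.left := fun {Z} g₁ g₂ e => by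
    have e' : g₂ ≫ X.hom = g₁ ≫ X.hom := by
      rw [← Over.w q, ← Category.assoc, ← e, Category.assoc]
    exact congrArg CommaMorphism.left
      (hf (Over.mk (g₁ ≫ X.hom)) (Over.homMk g₁ rfl) (Over.homMk g₂ e') (Over.OverMorphism.ext e))
  have : Epi q.left := Flat.epi_of_flat_of_surjective _
  refine ⟨Over.homMk (EffectiveEpi.desc q.left f.left hk) ?_, Over.OverMorphism.ext (EffectiveEpi.fac q.left f.left hk), ?_⟩
  · rw [← cancel_epi q.left, ← Category.assoc, EffectiveEpi.fac, Over.w, Over.w]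
  · intro g hg
    ext : 1
    rw [← cancel_epi q.left, ← Over.comp_left, hg]
    exact (EffectiveEpi.fac q.left f.left hk).symm

theorem IsCover.descend_of_isPullback {X Y K P : Over S} {q : X ⟶ Y} {p₁ p₂ : P ⟶ X} (h : IsCover q)
    (hP : IsPullback p₁ p₂ q q) (f : X ⟶ K) (hf : p₁ ≫ f = p₂ ≫ f) : ∃! g : Y ⟶ K, q ≫ g = f :=
  h.descend f fun T x y e => by
    rw [← hP.lift_fst x y e, Category.assoc, hf, ← Category.assoc, hP.lift_snd x y e]

/-- points lift after a cover -/
theorem IsCover.exists_lift {X Y T : Over S} {q : X ⟶ Y} (h : IsCover q) (a : T ⟶ Y) :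
    ∃ (T' : Over S) (π : T' ⟶ T) (a' : T' ⟶ X), IsCover π ∧ a' ≫ q = π ≫ a := by
  obtain ⟨_, _, _⟩ := h
  refine ⟨Over.mk (pullback.fst a.left q.left ≫ T.hom), Over.homMk (pullback.fst a.left q.left) rfl,
    Over.homMk (pullback.snd a.left q.left) ?_, ⟨?_, ?_, ?_⟩, Over.OverMorphism.ext pullback.condition.symm⟩
  · change _ ≫ X.hom = pullback.fst a.left q.left ≫ T.hom
    rw [← Over.w q, ← pullback.condition_assoc, Over.w a]
  · change Surjective (pullback.fst a.left q.left); infer_instance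
  · change Flat (pullback.fst a.left q.left); infer_instance
  · change LocallyOfFinitePresentation (pullback.fst a.left q.left); infer_instance

theorem IsCover.exists_lift₂ {X Y T : Over S} {q : X ⟶ Y} (h : IsCover q) (a b : T ⟶ Y) :
    ∃ (T' : Over S) (π : T' ⟶ T) (a' b' : T' ⟶ X), IsCover π ∧ a' ≫ q = π ≫ a ∧ b' ≫ q = π ≫ b := by
  obtain ⟨T₁, π₁, a₁, h₁, e₁⟩ := h.exists_lift a
  obtain ⟨T₂, π₂, b₂, h₂, e₂⟩ := h.exists_lift (π₁ ≫ b)
  exact ⟨T₂, π₂ ≫ π₁, π₂ ≫ a₁, b₂, h₂.comp h₁, by rw [Category.assoc, e₁, Category.assoc],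
    by rw [e₂, Category.assoc]⟩

theorem isMonHom_of_points {A B : Over S} [MonObj A] [MonObj B] (f : A ⟶ B)
    (h1 : ∀ T : Over S, (1 : T ⟶ A) ≫ f = 1) (hm : ∀ (T : Over S) (a b : T ⟶ A), (a * b) ≫ f = (a ≫ f) * (b ≫ f)) :
    IsMonHom f where
  one_hom := by
    have h := h1 (𝟙_ (Over S))
    simpa [Hom.one_def, toUnit_unit] using h
  mul_hom := by
    have h := hm (A ⊗ A) (fst A A) (snd A A)
    simpa [Hom.mul_def, tensorHom_def] using h

/-- a map out of a cover target is a homomorphism as soon as its composite with the cover is -/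
theorem IsCover.isMonHom_of_comp {X Y K : Over S} [MonObj X] [MonObj Y] [MonObj K] {q : X ⟶ Y}
    (h : IsCover q) [IsMonHom q] (g : Y ⟶ K) (f : X ⟶ K) [IsMonHom f] (hg : q ≫ g = f) : IsMonHom g := by
  refine isMonHom_of_points g (fun T => ?_) (fun T a b => ?_)
  · rw [← MonObj.one_comp q, Category.assoc, hg, MonObj.one_comp]
  · obtain ⟨T', π, a', b', hπ, ha, hb⟩ := h.exists_lift₂ a b
    have := hπ.epi
    rw [← cancel_epi π]
    have e : π ≫ (a * b) = (a' * b') ≫ q := by rw [MonObj.mul_comp, MonObj.comp_mul, ha, hb]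
    rw [← Category.assoc, e, Category.assoc, hg, MonObj.mul_comp, MonObj.comp_mul,
      ← Category.assoc π a, ← Category.assoc π b, ← ha, ← hb, Category.assoc, Category.assoc, hg]

theorem isCover_of_lft {k : Type u} [Field k] {X Y : Over (Spec (CommRingCat.of k))} (q : X ⟶ Y)
    [LocallyOfFiniteType X.hom] [LocallyOfFiniteType Y.hom] [Flat q.left] [Surjective q.left] : IsCover q := by
  refine ⟨inferInstance, inferInstance, ?_⟩
  have : LocallyOfFiniteType (q.left ≫ Y.hom) := by rw [Over.w]; infer_instance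
  have : LocallyOfFiniteType q.left := locallyOfFiniteType_of_comp q.left Y.hom
  have : IsLocallyNoetherian Y.left := LocallyOfFiniteType.isLocallyNoetherian Y.hom
  infer_instance

end Groth.Agent.Desc

end
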