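import Groth.Agent.Lib.Desc.Over
import Groth.Prelude.Def_ChGrp

/-! The group structure on a quotient by a normal subgroup. -/

universe u

open CategoryTheory CategoryTheory.Limits MonoidalCategory CartesianMonoidalCategory MonObj AlgebraicGeometry

noncomputable section

namespace Groth.Agent.Desc

variable {S : Scheme.{u}}

theorem IsCover.of_isPullback {P X Y T : Over S} {p : P ⟶ T} {p' : P ⟶ X} {q : X ⟶ Y} {a : T ⟶ Y}
    (h : IsPullback p' p q a) (hq : IsCover q) : IsCover p := by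
  obtain ⟨h1, h2, h3⟩ := hq
  have hl := h.map (Over.forget S)
  exact ⟨MorphismProperty.of_isPullback hl h1, MorphismProperty.of_isPullback hl h2,
    MorphismProperty.of_isPullback hl h3⟩

theorem IsCover.whiskerRight {X Y : Over S} {q : X ⟶ Y} (hq : IsCover q) (Z : Over S) : IsCover (q ▷ Z) := by
  refine IsCover.of_isPullback (p' := fst X Z) (a := fst Y Z) (IsPullback.of_isLimit' ⟨(whiskerRight_fst q Z).symm⟩
    (PullbackCone.IsLimit.mk _ (fun s => lift s.fst (s.snd ≫ snd Y Z)) (fun s => lift_fst _ _) (fun s => ?_)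
      (fun s m h1 h2 => ?_))) hq
  · refine CartesianMonoidalCategory.hom_ext _ _ ?_ ?_
    · rw [Category.assoc, whiskerRight_fst, lift_fst_assoc]
      exact s.condition
    · rw [Category.assoc, whiskerRight_snd, lift_snd]
  · refine CartesianMonoidalCategory.hom_ext _ _ (by rw [h1, lift_fst]) ?_
    rw [lift_snd, ← h2, Category.assoc, whiskerRight_snd]

theorem IsCover.whiskerLeft {X Y : Over S} {q : X ⟶ Y} (hq : IsCover q) (Z : Over S) : IsCover (Z ◁ q) := by
  refine IsCover.of_isPullback (p' := snd Z X) (a := snd Z Y) (IsPullback.of_isLimit' ⟨(whiskerLeft_snd Z q).symm⟩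
    (PullbackCone.IsLimit.mk _ (fun s => lift (s.snd ≫ fst Z Y) s.fst) (fun s => lift_snd _ _) (fun s => ?_)
      (fun s m h1 h2 => ?_))) hq
  · refine CartesianMonoidalCategory.hom_ext _ _ ?_ ?_
    · rw [Category.assoc, whiskerLeft_fst, lift_fst]
    · rw [Category.assoc, whiskerLeft_snd, lift_snd_assoc]
      exact s.condition
  · refine CartesianMonoidalCategory.hom_ext _ _ ?_ (by rw [h1, lift_snd])
    rw [lift_fst, ← h2, Category.assoc, whiskerLeft_fst]

theorem IsCover.tensor {X Y X' Y' : Over S} {q : X ⟶ Y} {q' : X' ⟶ Y'} (hq : IsCover q) (hq' : IsCover q') :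
    IsCover (q ⊗ₘ q') := by
  rw [tensorHom_def]
  exact (hq.whiskerRight X').comp (hq'.whiskerLeft Y)

variable {G H Q : Over S} [GrpObj G] [GrpObj H] {i : H ⟶ G} [IsMonHom i] {q : G ⟶ Q}

theorem quotient_group (hc : IsCover q) (hn : AlgGrp.IsNormalHom i)
    (hP : IsPullback (fst G H) ((G ◁ i) ≫ μ[G]) q q) :
    ∃! s : GrpObj Q, @IsMonHom (Over S) _ _ G Q ‹GrpObj G›.toMonObj s.toMonObj q := by
  have hmap : (G ◁ i) ≫ μ[G] = fst G H * (snd G H ≫ i) := by
    rw [Hom.mul_def]; congr 1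
  have inv : ∀ (T : Over S) (g : T ⟶ G) (h : T ⟶ H), (g * (h ≫ i)) ≫ q = g ≫ q := fun T g h => by
    have := congrArg (lift g h ≫ ·) hP.w
    simp only [hmap] at this
    rw [lift_fst_assoc, ← Category.assoc, MonObj.comp_mul, lift_fst, lift_snd_assoc] at this
    exact this.symm
  have sep : ∀ (T : Over S) (x y : T ⟶ G), x ≫ q = y ≫ q → ∃ h : T ⟶ H, y = x * (h ≫ i) := fun T x y e => by
    refine ⟨hP.lift x y e ≫ snd G H, ?_⟩
    have h2 : hP.lift x y e ≫ (fst G H * (snd G H ≫ i)) = y :=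
      (congrArg (hP.lift x y e ≫ ·) hmap).symm.trans (hP.lift_snd x y e)
    rw [MonObj.comp_mul, hP.lift_fst] at h2
    rw [Category.assoc]
    exact h2.symm
  have hqq : IsCover (q ⊗ₘ q) := hc.tensor hc
  obtain ⟨m, hm, -⟩ := hqq.descend (μ[G] ≫ q) (fun T x y e => by
    have e1 : (x ≫ fst G G) ≫ q = (y ≫ fst G G) ≫ q := by
      simpa only [Category.assoc, tensorHom_fst] using congrArg (· ≫ fst Q Q) e
    have e2 : (x ≫ snd G G) ≫ q = (y ≫ snd G G) ≫ q := by
      simpa only [Category.assoc, tensorHom_snd] using congrArg (· ≫ snd Q Q) e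
    obtain ⟨h₁, e1'⟩ := sep T _ _ e1
    obtain ⟨h₂, e2'⟩ := sep T _ _ e2
    obtain ⟨h₁', hn'⟩ := hn T (x ≫ snd G G)⁻¹ h₁
    rw [inv_inv] at hn'
    rw [mul_eq_mul, ← Category.assoc, ← Category.assoc, MonObj.comp_mul, MonObj.comp_mul, e1', e2',
      show (x ≫ fst G G) * (h₁ ≫ i) * ((x ≫ snd G G) * (h₂ ≫ i)) =
        ((x ≫ fst G G) * (x ≫ snd G G)) * (((x ≫ snd G G)⁻¹ * (h₁ ≫ i) * (x ≫ snd G G)) * (h₂ ≫ i)) by
          simp only [_root_.mul_assoc, mul_inv_cancel_left],
      hn', ← MonObj.mul_comp, inv])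
  obtain ⟨n, hinv, -⟩ := hc.descend ((𝟙 G)⁻¹ ≫ q) (fun T x y e => by
    obtain ⟨h, rfl⟩ := sep T x y e
    obtain ⟨h', hn'⟩ := hn T x h⁻¹
    simp only [← Category.assoc, GrpObj.comp_inv, Category.comp_id]
    rw [_root_.mul_inv_rev, ← GrpObj.inv_comp,
      show (h⁻¹ ≫ i) * x⁻¹ = x⁻¹ * (x * (h⁻¹ ≫ i) * x⁻¹) by simp only [_root_.mul_assoc, inv_mul_cancel_left],
      hn', inv])
  have hmpt : ∀ (T : Over S) (a b : T ⟶ G), lift (a ≫ q) (b ≫ q) ≫ m = (a * b) ≫ q := fun T a b => by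
    rw [← lift_map, Category.assoc, hm, ← Category.assoc]; rfl
  letI mon : MonObj Q :=
    { one := η[G] ≫ q
      mul := m
      one_mul := by
        have := (hc.whiskerLeft (𝟙_ (Over S))).epi
        rw [← cancel_epi (𝟙_ (Over S) ◁ q)]
        refine AlgGrp.Action.hom_ext_lift₂ fun T a b => ?_
        rw [lift_whiskerLeft_assoc, lift_whiskerLeft_assoc, lift_whiskerRight_assoc, leftUnitor_hom, lift_snd,
          ← Category.assoc a, hmpt, toUnit_unique a (toUnit T), ← Hom.one_def, _root_.one_mul]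
      mul_one := by
        have := (hc.whiskerRight (𝟙_ (Over S))).epi
        rw [← cancel_epi (q ▷ 𝟙_ (Over S))]
        refine AlgGrp.Action.hom_ext_lift₂ fun T a b => ?_
        rw [lift_whiskerRight_assoc, lift_whiskerRight_assoc, lift_whiskerLeft_assoc, rightUnitor_hom, lift_fst,
          ← Category.assoc b, hmpt, toUnit_unique b (toUnit T), ← Hom.one_def, _root_.mul_one]
      mul_assoc := by
        have := (hqq.tensor hc).epi
        rw [← cancel_epi ((q ⊗ₘ q) ⊗ₘ q)]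
        refine AlgGrp.Action.hom_ext_lift₃ fun T a b c => ?_
        rw [lift_map_assoc, lift_map_assoc, lift_map, lift_whiskerRight_assoc, hmpt, hmpt,
          lift_lift_associator_hom_assoc, lift_whiskerLeft_assoc, hmpt, hmpt, _root_.mul_assoc] }
  haveI hhom : @IsMonHom (Over S) _ _ G Q ‹GrpObj G›.toMonObj mon q := by
    constructor
    · rfl
    · exact hm.symm
  letI s : GrpObj Q :=
    { mon with
      inv := n
      left_inv := by
        have := hc.epi
        rw [← cancel_epi q, comp_lift_assoc, Category.comp_id, hinv]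
        change lift ((𝟙 G)⁻¹ ≫ q) q ≫ m = q ≫ toUnit Q ≫ η[G] ≫ q
        rw [show lift ((𝟙 G)⁻¹ ≫ q) q = lift ((𝟙 G)⁻¹ ≫ q) (𝟙 G ≫ q) by rw [Category.id_comp], hmpt,
          inv_mul_cancel, Hom.one_def, ← Category.assoc q (toUnit Q), toUnit_unique (q ≫ toUnit Q) (toUnit G),
          Category.assoc]
      right_inv := by
        have := hc.epi
        rw [← cancel_epi q, comp_lift_assoc, Category.comp_id, hinv]
        change lift q ((𝟙 G)⁻¹ ≫ q) ≫ m = q ≫ toUnit Q ≫ η[G] ≫ q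
        rw [show lift q ((𝟙 G)⁻¹ ≫ q) = lift (𝟙 G ≫ q) ((𝟙 G)⁻¹ ≫ q) by rw [Category.id_comp], hmpt,
          mul_inv_cancel, Hom.one_def, ← Category.assoc q (toUnit Q), toUnit_unique (q ≫ toUnit Q) (toUnit G),
          Category.assoc] }
  refine ⟨s, hhom, fun s' hs' => GrpObj.ext s' s ?_⟩
  have := hqq.epi
  ext1
  change _ = m
  rw [← cancel_epi (q ⊗ₘ q), hm]
  exact (@IsMonHom.mul_hom (Over S) _ _ G Q ‹GrpObj G›.toMonObj s'.toMonObj q hs').symm

end Groth.Agent.Desc

end
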